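import Mathlib

/-!
The subgroup generated by the derangements of a transitive group.
-/

set_option autoImplicit false

namespace CfsgLib.Derangements

open MulAction
open scoped Pointwise

variable (G Ω : Type*) [Group G] [MulAction G Ω]

/-- The subgroup generated by the derangements. -/
def derGroup : Subgroup G := Subgroup.closure {g : G | ∀ ω : Ω, g • ω ≠ ω}

variable {G Ω}

theorem mem_derGroup_of_fixedBy_eq_empty {g : G} (h : ∀ ω : Ω, g • ω ≠ ω) : g ∈ derGroup G Ω :=
  Subgroup.subset_closure h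

instance derGroup_normal : (derGroup G Ω).Normal := by
  refine ⟨fun n hn g => ?_⟩
  induction hn using Subgroup.closure_induction with
  | mem x hx =>
    refine Subgroup.subset_closure fun ω h => hx (g⁻¹ • ω) ?_
    rw [mul_smul, mul_smul] at h
    exact eq_inv_smul_iff.2 h
  | one => rw [mul_one, mul_inv_cancel]; exact one_mem _
  | mul x y _ _ hx hy =>
    have : g * (x * y) * g⁻¹ = (g * x * g⁻¹) * (g * y * g⁻¹) := by group
    rw [this]; exact mul_mem hx hy
  | inv x _ hx =>
    have : g * x⁻¹ * g⁻¹ = (g * x * g⁻¹)⁻¹ := by group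
    rw [this]; exact inv_mem hx

variable [Finite G] [Finite Ω]

theorem one_le_card_fixedBy {g : G} (hg : g ∉ derGroup G Ω) : 1 ≤ Nat.card (fixedBy Ω g) := by
  have : ∃ ω : Ω, g • ω = ω := by
    by_contra h
    exact hg (mem_derGroup_of_fixedBy_eq_empty fun ω hω => h ⟨ω, hω⟩)
  obtain ⟨ω, hω⟩ := this
  haveI : Nonempty (fixedBy Ω g) := ⟨⟨ω, hω⟩⟩
  exact Nat.card_pos

/-- Orbit counting, with `Nat.card`. -/
theorem sum_fix (H X : Type*) [Group H] [MulAction H X] [Fintype H] [Finite X] :
    ∑ h : H, Nat.card (fixedBy X h) = Nat.card (orbitRel.Quotient H X) * Nat.card H := by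
  classical
  haveI := Fintype.ofFinite X
  haveI : Fintype (Quotient (orbitRel H X)) := Fintype.ofFinite _
  have := MulAction.sum_card_fixedBy_eq_card_orbits_mul_card_group H X
  simp only [← Nat.card_eq_fintype_card] at this
  exact this

/-- Splitting orbit counting along the derangement subgroup. -/
theorem sum_split (X : Type*) [MulAction G X] [Finite X] [Fintype G]
    [DecidablePred (· ∈ derGroup G Ω)] :
    Nat.card (orbitRel.Quotient G X) * Nat.card G =
      Nat.card (orbitRel.Quotient ↥(derGroup G Ω) X) * Nat.card ↥(derGroup G Ω) +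
        ∑ g : {g : G // g ∉ derGroup G Ω}, Nat.card (fixedBy X (g : G)) := by
  rw [← sum_fix G X, ← sum_fix ↥(derGroup G Ω) X,
    ← Fintype.sum_subtype_add_sum_subtype (fun g => g ∈ derGroup G Ω) fun g => Nat.card (fixedBy X g)]
  rfl

theorem transitive_and_fix_one [IsPretransitive G Ω] [FaithfulSMul G Ω] :
    IsPretransitive ↥(derGroup G Ω) Ω ∧
      ∀ g : G, Nat.card (fixedBy Ω g) ≠ 1 → g ∈ derGroup G Ω := by
  classical
  haveI := Fintype.ofFinite G
  rcases isEmpty_or_nonempty Ω with hΩ | hΩ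
  · exact ⟨⟨fun x => (hΩ.false x).elim⟩,
      fun g _ => mem_derGroup_of_fixedBy_eq_empty fun ω => (hΩ.false ω).elim⟩
  have h := sum_split (G := G) (Ω := Ω) Ω
  have hG1 : Nat.card (orbitRel.Quotient G Ω) = 1 := by
    haveI : Subsingleton (orbitRel.Quotient G Ω) := (pretransitive_iff_subsingleton_quotient G Ω).1 inferInstance
    obtain ⟨ω⟩ := hΩ
    haveI : Nonempty (orbitRel.Quotient G Ω) := ⟨Quotient.mk'' ω⟩
    exact Nat.card_unique
  rw [hG1, one_mul] at h
  have hk : 1 ≤ Nat.card (orbitRel.Quotient ↥(derGroup G Ω) Ω) := by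
    obtain ⟨ω⟩ := hΩ
    haveI : Nonempty (orbitRel.Quotient ↥(derGroup G Ω) Ω) := ⟨Quotient.mk'' ω⟩
    exact Nat.card_pos
  have hc : Fintype.card {g : G // g ∈ derGroup G Ω} + Fintype.card {g : G // g ∉ derGroup G Ω} =
      Fintype.card G := by
    rw [Fintype.card_subtype_compl, Nat.add_sub_cancel' (Fintype.card_subtype_le _)]
  simp only [← Nat.card_eq_fintype_card] at hc
  have hge : Nat.card {g : G // g ∉ derGroup G Ω} ≤
      ∑ g : {g : G // g ∉ derGroup G Ω}, Nat.card (fixedBy Ω (g : G)) := by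
    rw [Nat.card_eq_fintype_card, Fintype.card_eq_sum_ones]
    exact Finset.sum_le_sum fun g _ => one_le_card_fixedBy g.2
  have hk1 : Nat.card (orbitRel.Quotient ↥(derGroup G Ω) Ω) = 1 := by
    have hD : 0 < Nat.card ↥(derGroup G Ω) := Nat.card_pos
    refine le_antisymm ?_ hk
    by_contra hlt
    have : 2 * Nat.card ↥(derGroup G Ω) ≤
        Nat.card (orbitRel.Quotient ↥(derGroup G Ω) Ω) * Nat.card ↥(derGroup G Ω) :=
      Nat.mul_le_mul_right _ (by omega)
    omega
  refine ⟨(pretransitive_iff_subsingleton_quotient _ Ω).2 ((Nat.card_eq_one_iff_unique.1 hk1).1), fun g hg => ?_⟩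
  by_contra hgD
  rw [hk1, one_mul] at h
  have hlt : Nat.card {g : G // g ∉ derGroup G Ω} <
      ∑ g : {g : G // g ∉ derGroup G Ω}, Nat.card (fixedBy Ω (g : G)) := by
    rw [Nat.card_eq_fintype_card, Fintype.card_eq_sum_ones]
    refine Finset.sum_lt_sum (fun g _ => one_le_card_fixedBy g.2) ⟨⟨g, hgD⟩, Finset.mem_univ _, ?_⟩
    have := one_le_card_fixedBy hgD
    show 1 < Nat.card (fixedBy Ω g)
    omega
  omega

theorem rank_eq [IsPretransitive G Ω] [FaithfulSMul G Ω] :
    Nat.card (orbitRel.Quotient ↥(derGroup G Ω) (Ω × Ω)) - 1 =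
      (Nat.card (orbitRel.Quotient G (Ω × Ω)) - 1) * (derGroup G Ω).index := by
  classical
  haveI := Fintype.ofFinite G
  rcases isEmpty_or_nonempty Ω with hΩ | hΩ
  · haveI : IsEmpty (orbitRel.Quotient G (Ω × Ω)) :=
      ⟨fun x => Quotient.inductionOn' x fun y => hΩ.false y.1⟩
    haveI : IsEmpty (orbitRel.Quotient ↥(derGroup G Ω) (Ω × Ω)) :=
      ⟨fun x => Quotient.inductionOn' x fun y => hΩ.false y.1⟩
    simp
  have h := sum_split (G := G) (Ω := Ω) (Ω × Ω)
  have hfix : ∀ g : {g : G // g ∉ derGroup G Ω}, Nat.card (fixedBy (Ω × Ω) (g : G)) = 1 := by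
    intro g
    have h1 : Nat.card (fixedBy Ω (g : G)) = 1 := by
      by_contra hne; exact g.2 (transitive_and_fix_one.2 _ hne)
    rw [show Nat.card (fixedBy (Ω × Ω) (g : G)) = Nat.card (fixedBy Ω (g : G) × fixedBy Ω (g : G)) from
      Nat.card_congr
        { toFun := fun x => (⟨x.1.1, congrArg Prod.fst x.2⟩, ⟨x.1.2, congrArg Prod.snd x.2⟩)
          invFun := fun y => ⟨(y.1.1, y.2.1), Prod.ext y.1.2 y.2.2⟩
          left_inv := fun x => rfl
          right_inv := fun y => rfl }, Nat.card_prod, h1]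
  rw [Finset.sum_congr rfl (fun g _ => hfix g), Finset.sum_const, Finset.card_univ, smul_eq_mul,
    mul_one] at h
  have hc : Fintype.card {g : G // g ∈ derGroup G Ω} + Fintype.card {g : G // g ∉ derGroup G Ω} =
      Fintype.card G := by
    rw [Fintype.card_subtype_compl, Nat.add_sub_cancel' (Fintype.card_subtype_le _)]
  simp only [← Nat.card_eq_fintype_card] at hc h
  have hi := Subgroup.card_mul_index (derGroup G Ω)
  set rG := Nat.card (orbitRel.Quotient G (Ω × Ω))
  set rD := Nat.card (orbitRel.Quotient ↥(derGroup G Ω) (Ω × Ω))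
  obtain ⟨ω⟩ := hΩ
  have h1 : 1 ≤ rG := by
    haveI : Nonempty (orbitRel.Quotient G (Ω × Ω)) := ⟨Quotient.mk'' (ω, ω)⟩
    exact Nat.card_pos
  have h2 : 1 ≤ rD := by
    haveI : Nonempty (orbitRel.Quotient ↥(derGroup G Ω) (Ω × Ω)) := ⟨Quotient.mk'' (ω, ω)⟩
    exact Nat.card_pos
  obtain ⟨u, hu⟩ := Nat.exists_eq_add_of_le h1
  obtain ⟨v, hv⟩ := Nat.exists_eq_add_of_le h2
  rw [hu, hv] at h ⊢
  simp only [Nat.add_sub_cancel_left]
  apply Nat.eq_of_mul_eq_mul_left (Nat.card_pos (α := ↥(derGroup G Ω)))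
  have : Nat.card ↥(derGroup G Ω) * (u * (derGroup G Ω).index) = u * Nat.card G := by
    rw [← hi]; ring
  rw [this]
  have e1 : (1 + u) * Nat.card G = Nat.card G + u * Nat.card G := by ring
  have e2 : (1 + v) * Nat.card ↥(derGroup G Ω) =
      Nat.card ↥(derGroup G Ω) + Nat.card ↥(derGroup G Ω) * v := by ring
  have hc' : Nat.card ↥(derGroup G Ω) + Nat.card {g : G // g ∉ derGroup G Ω} = Nat.card G := hc
  omega

variable [IsPretransitive G Ω] [FaithfulSMul G Ω]

theorem two_fixed_mem {g : G} {a b : Ω} (hab : a ≠ b) (ha : g • a = a) (hb : g • b = b) :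
    g ∈ derGroup G Ω := by
  refine transitive_and_fix_one.2 g fun h => hab ?_
  obtain ⟨x, hx⟩ := Nat.card_eq_one_iff_exists.1 h
  exact congrArg Subtype.val ((hx ⟨a, ha⟩).trans (hx ⟨b, hb⟩).symm)

theorem relIndex_stabilizer (a : Ω) :
    (derGroup G Ω).relIndex (stabilizer G a) = (derGroup G Ω).index := by
  have hsup : stabilizer G a ⊔ derGroup G Ω = ⊤ := by
    rw [eq_top_iff]
    intro g _
    haveI := (transitive_and_fix_one (G := G) (Ω := Ω)).1
    obtain ⟨d, hd⟩ := exists_smul_eq ↥(derGroup G Ω) a (g • a)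
    rw [Subgroup.smul_def] at hd
    have : g = (d : G) * ((d : G)⁻¹ * g) := by group
    rw [this]
    exact mul_mem (Subgroup.mem_sup_right d.2)
      (Subgroup.mem_sup_left (by rw [mem_stabilizer_iff, mul_smul, ← hd, inv_smul_smul]))
  rw [← Subgroup.relIndex_sup_right (H := stabilizer G a), hsup, Subgroup.relIndex_top_right]

/-- A set of points other than `a`, invariant under the stabiliser of `a`, has cardinality divisible by
the index of the derangement subgroup. -/
theorem index_dvd_card (a : Ω) (S : SubMulAction ↥(stabilizer G a) Ω) (ha : a ∉ S) :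
    (derGroup G Ω).index ∣ Nat.card S := by
  classical
  haveI : Fintype (orbitRel.Quotient ↥(stabilizer G a) S) := Fintype.ofFinite _
  haveI := Fintype.ofFinite G
  rw [Nat.card_congr (selfEquivSigmaOrbitsQuotientStabilizer ↥(stabilizer G a) S), Nat.card_sigma]
  refine Finset.dvd_sum fun ω _ => ?_
  rw [← relIndex_stabilizer a]
  have hle : stabilizer ↥(stabilizer G a) (ω.out) ≤ (derGroup G Ω).subgroupOf (stabilizer G a) := by
    intro m hm
    have hne : a ≠ ((Quotient.out ω : S) : Ω) := fun h => ha ((congrArg (fun z => z ∈ S) h).mpr (Quotient.out ω : S).2)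
    exact two_fixed_mem hne m.2 (congrArg Subtype.val hm)
  exact Subgroup.index_dvd_of_le hle

theorem index_dvd_card_sub_one (a : Ω) : (derGroup G Ω).index ∣ Nat.card Ω - 1 := by
  let S : SubMulAction ↥(stabilizer G a) Ω :=
    { carrier := {a}ᶜ
      smul_mem' := fun m x hx h => hx ((smul_left_cancel_iff m).1 (h.trans m.2.symm)) }
  have := index_dvd_card a S (fun h => h rfl)
  rwa [show Nat.card S = Nat.card Ω - 1 from ?_] at this
  show Nat.card ({a}ᶜ : Set Ω) = _
  rw [Nat.card_coe_set_eq, Set.ncard_compl, Set.ncard_singleton]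

theorem isPrimePow_card (hΩ : 2 ≤ Nat.card Ω)
    (h : (derGroup G Ω).index = Nat.card Ω - 1) : IsPrimePow (Nat.card Ω) := by
  set D := derGroup G Ω with hD
  haveI hDt : IsPretransitive ↥D Ω := (transitive_and_fix_one (G := G) (Ω := Ω)).1
  haveI : Nonempty Ω := (Nat.card_pos_iff.1 (by omega)).1
  obtain ⟨a⟩ := ‹Nonempty Ω›
  -- every orbit of the stabiliser off `a` is everything
  have horb : ∀ b, b ≠ a → ∀ c, c ≠ a → ∃ m ∈ stabilizer G a, m • b = c := by
    intro b hb c hc
    let S : SubMulAction ↥(stabilizer G a) Ω :=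
      { carrier := orbit ↥(stabilizer G a) b
        smul_mem' := fun m x hx => (mem_orbit_of_mem_orbit m hx) }
    have haS : a ∉ S := by
      rintro ⟨m, hm⟩
      exact hb ((smul_left_cancel_iff m).1 (hm.trans m.2.symm))
    have hdvd := index_dvd_card a S haS
    have hsub : orbit ↥(stabilizer G a) b ⊆ ({a}ᶜ : Set Ω) := fun x hx hxa => haS ((congrArg (fun z => z ∈ S) (show x = a from hxa)).mp hx)
    have hcard : (orbit ↥(stabilizer G a) b).ncard = Nat.card Ω - 1 := by
      refine le_antisymm ?_ (h ▸ Nat.le_of_dvd ?_ hdvd)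
      · refine (Set.ncard_le_ncard hsub).trans ?_
        rw [Set.ncard_compl, Set.ncard_singleton]
      · haveI : Nonempty S := ⟨⟨b, mem_orbit_self b⟩⟩
        exact Nat.card_pos
    have heq : orbit ↥(stabilizer G a) b = {a}ᶜ := by
      refine Set.eq_of_subset_of_ncard_le hsub ?_
      rw [Set.ncard_compl, Set.ncard_singleton, hcard]
    have : c ∈ orbit ↥(stabilizer G a) b := heq ▸ hc
    obtain ⟨m, hm⟩ := this
    exact ⟨m, m.2, hm⟩
  -- `D` is regular
  have hreg : ∀ d ∈ D, d • a = a → d = 1 := by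
    intro d hd hda
    refine eq_of_smul_eq_smul (α := Ω) fun x => ?_
    rw [one_smul]
    by_cases hx : x = a
    · rw [hx, hda]
    -- stabiliser of two points has the same relative index
    have hle : stabilizer ↥(stabilizer G a) x ≤ D.subgroupOf (stabilizer G a) :=
      fun m hm => two_fixed_mem (Ne.symm hx) m.2 hm
    have hi : (stabilizer ↥(stabilizer G a) x).index = (D.subgroupOf (stabilizer G a)).index := by
      rw [index_stabilizer]
      show _ = D.relIndex (stabilizer G a)
      rw [relIndex_stabilizer a, h]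
      have heq : orbit ↥(stabilizer G a) x = {a}ᶜ := by
        ext c
        constructor
        · rintro ⟨m, rfl⟩ hca
          exact hx ((smul_left_cancel_iff m).1 (hca.trans m.2.symm))
        · intro hc
          obtain ⟨m, hm, hmx⟩ := horb x hx c hc
          exact ⟨⟨m, hm⟩, hmx⟩
      rw [heq, Set.ncard_compl, Set.ncard_singleton]
    have hmem : (⟨d, hda⟩ : ↥(stabilizer G a)) ∈ stabilizer ↥(stabilizer G a) x := by
      have hfull : stabilizer ↥(stabilizer G a) x = D.subgroupOf (stabilizer G a) := by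
        refine le_antisymm hle (Subgroup.relIndex_eq_one.1 ?_)
        have := Subgroup.relIndex_mul_index hle
        rw [hi] at this
        have hpos : 0 < (D.subgroupOf (stabilizer G a)).index := Nat.pos_of_ne_zero Subgroup.index_ne_zero_of_finite
        exact Nat.eq_of_mul_eq_mul_right hpos (by rw [one_mul]; exact this)
      rw [hfull]; exact hd
    exact hmem
  have hcardD : Nat.card ↥D = Nat.card Ω := by
    refine Nat.card_eq_of_bijective (fun d : ↥D => (d : G) • a) ⟨fun d e hde => ?_, fun x => ?_⟩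
    · refine Subtype.ext (inv_mul_eq_one.1 (hreg ((d : G)⁻¹ * e) (mul_mem (inv_mem d.2) e.2) ?_))
      simp only at hde
      rw [mul_smul, ← hde, inv_smul_smul]
    · exact exists_smul_eq ↥D a x
  haveI : Nontrivial ↥D := Finite.one_lt_card_iff_nontrivial.1 (by omega)
  obtain ⟨d₀, hd₀⟩ := exists_ne (1 : ↥D)
  obtain ⟨p, hp, hpd⟩ := Nat.exists_prime_and_dvd (fun h1 => hd₀ (orderOf_eq_one_iff.1 h1))
  have hconj : ∀ x y : ↥D, x ≠ 1 → y ≠ 1 → orderOf x = orderOf y := by
    intro x y hx hy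
    have hxa : (x : G) • a ≠ a := fun e => hx (Subtype.ext (hreg x x.2 e))
    have hya : (y : G) • a ≠ a := fun e => hy (Subtype.ext (hreg y y.2 e))
    obtain ⟨m, hm, hmx⟩ := horb _ hxa _ hya
    have hm' : m⁻¹ • a = a := inv_smul_eq_iff.2 (mem_stabilizer_iff.1 hm).symm
    have hz : m * (x : G) * m⁻¹ ∈ D := Subgroup.Normal.conj_mem inferInstance _ x.2 m
    have he : (y : G)⁻¹ * (m * (x : G) * m⁻¹) = 1 := by
      refine hreg _ (mul_mem (inv_mem y.2) hz) ?_
      rw [mul_smul, mul_smul, mul_smul, hm', hmx, inv_smul_smul]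
    rw [← Subgroup.orderOf_coe, ← Subgroup.orderOf_coe y, inv_mul_eq_one.1 he]
    exact (MulEquiv.orderOf_eq (MulAut.conj m) (x : G)).symm
  haveI : Fact p.Prime := ⟨hp⟩
  have hord : ∀ x : ↥D, x ^ p = 1 := by
    intro x
    by_cases hx : x = 1
    · rw [hx, one_pow]
    obtain ⟨k, hk⟩ := hpd
    have hk0 : k ≠ 0 := by
      rintro rfl
      exact (orderOf_pos d₀).ne' (by simpa using hk)
    have h1 : orderOf (d₀ ^ k) = p := by
      rw [orderOf_pow_of_dvd hk0 (hk ▸ dvd_mul_left k p), hk, Nat.mul_div_cancel _ (Nat.pos_of_ne_zero hk0)]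
    rw [← orderOf_dvd_iff_pow_eq_one,
      hconj x (d₀ ^ k) hx (fun e => hp.one_lt.ne (by rw [← h1, e, orderOf_one])), h1]
  have hP : IsPGroup p ↥D := fun x => ⟨1, by rw [pow_one]; exact hord x⟩
  obtain ⟨k, hk⟩ := IsPGroup.iff_card.1 hP
  rw [← hcardD, hk]
  refine hp.isPrimePow.pow ?_
  rintro rfl
  rw [pow_zero, hcardD] at hk
  omega

theorem index_le_sqrt (hn : ¬ IsPreprimitive G Ω) :
    ((derGroup G Ω).index : ℝ) ≤ Real.sqrt (Nat.card Ω) - 1 := by
  have : ∃ B : Set Ω, IsBlock G B ∧ ¬ IsTrivialBlock B := by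
    by_contra h
    exact hn { isTrivialBlock_of_isBlock := fun {B} hB => by_contra fun h' => h ⟨B, hB, h'⟩ }
  obtain ⟨B, hB, hBt⟩ := this
  rw [IsTrivialBlock, not_or] at hBt
  obtain ⟨hB1, hB2⟩ := hBt
  rw [Set.not_subsingleton_iff] at hB1
  obtain ⟨a, haB, b, hbB, hab⟩ := hB1
  let S : SubMulAction ↥(stabilizer G a) Ω :=
    { carrier := B \ {a}
      smul_mem' := fun m x hx => by
        refine ⟨?_, fun h => hx.2 ((smul_left_cancel_iff m).1 (h.trans m.2.symm))⟩
        have hmB : (m : G) • B = B := by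
          refine (isBlock_iff_smul_eq_or_disjoint.1 hB (m : G)).resolve_right ?_
          refine Set.not_disjoint_iff.2 ⟨a, ?_, haB⟩
          exact ⟨a, haB, m.2⟩
        rw [← hmB]
        exact Set.smul_mem_smul_set hx.1 }
  have hd1 := index_dvd_card a S (fun h => h.2 rfl)
  have hd2 := index_dvd_card_sub_one (G := G) a
  have hS : Nat.card S = B.ncard - 1 := by
    show Nat.card (B \ {a} : Set Ω) = _
    rw [Nat.card_coe_set_eq, Set.ncard_diff_singleton_of_mem haB]
  rw [hS] at hd1
  obtain ⟨c, hc⟩ := IsBlock.ncard_dvd_card hB ⟨a, haB⟩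
  have hm2 : 2 ≤ B.ncard := Set.one_lt_ncard_iff (Set.toFinite B) |>.2 ⟨a, b, haB, hbB, hab⟩
  have hlt : B.ncard < Nat.card Ω := by
    refine lt_of_le_of_ne ?_ fun he => hB2 ?_
    · rw [← Set.ncard_univ]; exact Set.ncard_le_ncard (Set.subset_univ _)
    · exact Set.eq_of_subset_of_ncard_le (Set.subset_univ _) (by rw [Set.ncard_univ, he])
  have hc2 : 2 ≤ c := by
    by_contra h
    rcases Nat.lt_succ_iff.1 (not_le.1 h) |>.lt_or_eq with h' | h'
    · rw [show c = 0 by omega, mul_zero] at hc; omega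
    · rw [h', mul_one] at hc; omega
  have hd3 : (derGroup G Ω).index ∣ c - 1 := by
    have e : Nat.card Ω - 1 = c * (B.ncard - 1) + (c - 1) := by
      obtain ⟨u, hu⟩ := Nat.exists_eq_add_of_le (show 1 ≤ B.ncard by omega)
      rw [hc, hu, Nat.add_sub_cancel_left, Nat.add_mul, one_mul, mul_comm c u]
      omega
    rw [e] at hd2
    exact (Nat.dvd_add_right (hd1.mul_left c)).1 hd2
  have l1 := Nat.le_of_dvd (by omega) hd1
  have l2 := Nat.le_of_dvd (by omega) hd3
  have key : ((derGroup G Ω).index + 1) * ((derGroup G Ω).index + 1) ≤ Nat.card Ω := by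
    rw [hc]; exact Nat.mul_le_mul (by omega) (by omega)
  rw [le_sub_iff_add_le]
  apply Real.le_sqrt_of_sq_le
  rw [sq]
  exact_mod_cast key

end CfsgLib.Derangements
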